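import Groth.Prelude.Def_W4c5suslinpi1abAdj

/-!
Identities between exterior products and shriek products for squares of adjunctions.
-/

open CategoryTheory MonoidalCategory Functor.LaxMonoidal Functor.OplaxMonoidal
open W4c5suslinpi1ab

namespace Groth.Agent.AdjTriLib

universe v u

variable {S₀ : Type u} [Category.{v} S₀] [MonoidalCategory S₀]
variable {Y₁ : Type u} [Category.{v} Y₁] [MonoidalCategory Y₁]
variable {Y₂ : Type u} [Category.{v} Y₂] [MonoidalCategory Y₂]
variable {X : Type u} [Category.{v} X] [MonoidalCategory X]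
variable {fL : S₀ ⥤ Y₁} {fR : Y₁ ⥤ S₀} {gR : Y₂ ⥤ S₀}
variable {pL : Y₁ ⥤ X} {pR : X ⥤ Y₁} {qL : Y₂ ⥤ X} {qR : X ⥤ Y₂}
variable {fS : S₀ ⥤ Y₁} {gS : S₀ ⥤ Y₂} {pS : Y₁ ⥤ X}
variable (adjf : fL ⊣ fR) (adjp : pL ⊣ pR) (adjq : qL ⊣ qR) (ν : qR ⋙ gR ⟶ pR ⋙ fR)

theorem projR_natural_right [fR.LaxMonoidal] (A : Y₁) {B B' : S₀} (b : B ⟶ B') :
    (fR.obj A ◁ b) ≫ projR adjf A B' = projR adjf A B ≫ fR.map (A ◁ fL.map b) := by
  simp only [projR, Category.assoc]
  rw [← μ_natural_right fR A (fL.map b), ← whiskerLeft_comp_assoc, ← whiskerLeft_comp_assoc]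
  congr 2
  exact adjf.unit.naturality b

theorem projR_natural_left [fR.LaxMonoidal] {A A' : Y₁} (a : A ⟶ A') (B : S₀) :
    (fR.map a ▷ B) ≫ projR adjf A' B = projR adjf A B ≫ fR.map (a ▷ fL.obj B) := by
  simp only [projR, Category.assoc]
  rw [← μ_natural_left fR a (fL.obj B)]
  erw [← whisker_exchange_assoc]
  rfl

theorem projL_natural_right [pR.LaxMonoidal] (A : Y₁) {B B' : X} (b : B ⟶ B') :
    (A ◁ pR.map b) ≫ projL adjp A B' = projL adjp A B ≫ pR.map (pL.obj A ◁ b) := by
  simp only [projL, Category.assoc]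
  rw [← μ_natural_right pR (pL.obj A) b]
  erw [whisker_exchange_assoc]
  rfl

theorem projL_natural_left [pR.LaxMonoidal] {A A' : Y₁} (a : A ⟶ A') (B : X) :
    (a ▷ pR.obj B) ≫ projL adjp A' B = projL adjp A B ≫ pR.map (pL.map a ▷ B) := by
  simp only [projL, Category.assoc]
  rw [← μ_natural_left pR (pL.map a) B, ← comp_whiskerRight_assoc, ← comp_whiskerRight_assoc]
  congr 2
  exact adjp.unit.naturality a

theorem symm_projR [fL.OplaxMonoidal] [fR.LaxMonoidal] [adjf.IsMonoidal] (A : Y₁) (B : S₀) :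
    (adjf.homEquiv _ _).symm (projR adjf A B) =
      δ fL (fR.obj A) B ≫ (adjf.counit.app A ▷ fL.obj B) := by
  rw [Adjunction.homEquiv_counit, projR, Functor.map_comp, Category.assoc,
    adjf.map_μ_comp_counit_app_tensor]
  erw [← δ_natural_right_assoc]
  rw [MonoidalCategory.tensorHom_def]
  erw [whisker_exchange_assoc, ← whiskerLeft_comp, adjf.left_triangle_components]
  erw [whiskerLeft_id, Category.comp_id]

theorem symm_projL [pL.OplaxMonoidal] [pR.LaxMonoidal] [adjp.IsMonoidal] (A : Y₁) (B : X) :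
    (adjp.homEquiv _ _).symm (projL adjp A B) =
      δ pL A (pR.obj B) ≫ (pL.obj A ◁ adjp.counit.app B) := by
  rw [Adjunction.homEquiv_counit, projL, Functor.map_comp, Category.assoc,
    adjp.map_μ_comp_counit_app_tensor]
  erw [← δ_natural_left_assoc]
  rw [MonoidalCategory.tensorHom_def]
  erw [← comp_whiskerRight_assoc, adjp.left_triangle_components, id_whiskerRight, Category.id_comp]
  rfl

theorem symm_extProd [fL.OplaxMonoidal] [fR.LaxMonoidal] [adjf.IsMonoidal] [pL.OplaxMonoidal]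
    [pR.LaxMonoidal] [adjp.IsMonoidal] (A : Y₁) (B : Y₂) :
    ((adjf.comp adjp).homEquiv _ _).symm (extProd adjf adjp adjq ν A B) =
      δ (fL ⋙ pL) (fR.obj A) (gR.obj B) ≫
        (pL.map (adjf.counit.app A) ⊗ₘ
          (pL.map ((bcMor adjf adjq ν).app B) ≫ adjp.counit.app (qL.obj B))) := by
  rw [Adjunction.comp_homEquiv]
  show (adjp.homEquiv _ _).symm ((adjf.homEquiv _ _).symm (extProd adjf adjp adjq ν A B)) = _
  rw [extProd, ← Functor.map_comp, adjf.homEquiv_naturality_right_symm, symm_projR]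
  simp only [Category.assoc]
  rw [adjp.homEquiv_naturality_left_symm, adjp.homEquiv_naturality_left_symm,
    adjp.homEquiv_naturality_left_symm]
  erw [symm_projL, ← δ_natural_right_assoc, ← δ_natural_left_assoc,
    ← whiskerLeft_comp, ← MonoidalCategory.tensorHom_def, comp_δ, Category.assoc]
  rfl

theorem extProd_natural [fR.LaxMonoidal] [pR.LaxMonoidal] {A A' : Y₁} {B B' : Y₂}
    (a : A ⟶ A') (b : B ⟶ B') :
    (fR.map a ⊗ₘ gR.map b) ≫ extProd adjf adjp adjq ν A' B' =
      extProd adjf adjp adjq ν A B ≫ fR.map (pR.map (pL.map a ⊗ₘ qL.map b)) := by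
  simp only [extProd, Category.assoc]
  rw [MonoidalCategory.tensorHom_def, Category.assoc, ← Functor.map_comp, ← Functor.map_comp,
    ← Functor.map_comp]
  rw [← Category.assoc (fR.obj A' ◁ gR.map b), projR_natural_right, Category.assoc,
    ← Functor.map_comp, ← Category.assoc, projR_natural_left, Category.assoc, ← Functor.map_comp]
  congr 2
  rw [← whiskerLeft_comp_assoc]
  have hn := (bcMor adjf adjq ν).naturality b
  simp only [Functor.comp_map] at hn
  rw [hn, whiskerLeft_comp, Category.assoc, projL_natural_right, ← whisker_exchange_assoc]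
  dsimp only [Functor.comp_obj]
  rw [
    ← Category.assoc (a ▷ pR.obj (qL.obj B)), projL_natural_left, Category.assoc,
    ← Functor.map_comp, MonoidalCategory.tensorHom_def]

variable (adjf' : fR ⊣ fS) (adjg' : gR ⊣ gS) (adjp' : pR ⊣ pS)

theorem cupShriek_natural [fR.LaxMonoidal] [∀ (A : Y₁) (B : S₀), IsIso (projR adjf A B)]
    (A : S₀) {B B' : S₀} (b : B ⟶ B') :
    (fS.obj A ◁ fL.map b) ≫ cupShriek adjf adjf' A B' =
      cupShriek adjf adjf' A B ≫ fS.map (A ◁ b) := by
  simp only [cupShriek]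
  rw [← adjf'.homEquiv_naturality_left, ← adjf'.homEquiv_naturality_right]
  congr 1
  rw [← cancel_epi (projR adjf (fS.obj A) B), ← Category.assoc, ← projR_natural_right]
  simp only [Category.assoc, IsIso.hom_inv_id_assoc]
  exact whisker_exchange (adjf'.counit.app A) b

variable [fR.LaxMonoidal] [pR.LaxMonoidal]
  [∀ (A : Y₁) (B : S₀), IsIso (projR adjf A B)] [∀ (A : Y₁) (B : X), IsIso (projL adjp A B)]
  [∀ B : Y₂, IsIso ((bcMor adjf adjq ν).app B)]

theorem extProd_map_symm_prodShriek (A B : S₀) :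
    extProd adjf adjp adjq ν (fS.obj A) (gS.obj B) ≫
      fR.map ((adjp'.homEquiv _ _).symm (prodShriek adjf adjf' adjg' adjp adjp' adjq ν A B)) =
    projR adjf (fS.obj A) (gR.obj (gS.obj B)) ≫
      fR.map (cupShriek adjf adjf' A (gR.obj (gS.obj B)) ≫ fS.map (A ◁ adjg'.counit.app B)) := by
  rw [prodShriek, Equiv.symm_apply_apply, extProd]
  simp only [Category.assoc, ← Functor.map_comp, IsIso.hom_inv_id_assoc]
  rw [← whiskerLeft_comp_assoc, IsIso.hom_inv_id, whiskerLeft_id, Category.id_comp]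

theorem extProd_prodShriek_counit (A B : S₀) :
    extProd adjf adjp adjq ν (fS.obj A) (gS.obj B) ≫
      fR.map (pR.map (prodShriek adjf adjf' adjg' adjp adjp' adjq ν A B)) ≫
        fR.map (adjp'.counit.app (fS.obj (A ⊗ B))) =
      (fR.obj (fS.obj A) ◁ adjg'.counit.app B) ≫ projR adjf (fS.obj A) B ≫
        fR.map (cupShriek adjf adjf' A B) := by
  rw [← Functor.map_comp]
  erw [← adjp'.homEquiv_counit]
  erw [extProd_map_symm_prodShriek,
    ← cupShriek_natural, Functor.map_comp, ← Category.assoc, ← projR_natural_right, Category.assoc]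
  rfl

theorem extProd_comp_symm_prodShriek (A B : S₀) :
    extProd adjf adjp adjq ν (fS.obj A) (gS.obj B) ≫
      ((adjp'.comp adjf').homEquiv _ _).symm
        (prodShriek adjf adjf' adjg' adjp adjp' adjq ν A B) =
      (adjf'.counit.app A ⊗ₘ adjg'.counit.app B) := by
  rw [Adjunction.comp_homEquiv]
  show _ ≫ (adjf'.homEquiv _ _).symm ((adjp'.homEquiv _ _).symm _) = _
  rw [adjf'.homEquiv_counit, ← Category.assoc, extProd_map_symm_prodShriek, Category.assoc,
    ← adjf'.homEquiv_counit, adjf'.homEquiv_naturality_right_symm, cupShriek,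
    Equiv.symm_apply_apply, Category.assoc, IsIso.hom_inv_id_assoc, MonoidalCategory.tensorHom_def]
  rfl

theorem compatible_iff_fubini {A' : Y₁} {B' : Y₂} {C' : X} (A B : S₀)
    (trA : A' ⟶ fS.obj A) (trB : B' ⟶ gS.obj B) (trC : C' ⟶ pS.obj (fS.obj (A ⊗ B)))
    (m : pL.obj A' ⊗ qL.obj B' ⟶ C') :
    ((pL.map trA ⊗ₘ qL.map trB) ≫ prodShriek adjf adjf' adjg' adjp adjp' adjq ν A B = m ≫ trC) ↔
      (((adjf'.homEquiv _ _).symm trA ⊗ₘ (adjg'.homEquiv _ _).symm trB) =
        extProd adjf adjp adjq ν A' B' ≫ fR.map (pR.map m) ≫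
          ((adjp'.comp adjf').homEquiv _ _).symm trC) := by
  have hiso : IsIso (extProd adjf adjp adjq ν A' B') := by
    rw [extProd]; infer_instance
  have hkey : ((adjf'.homEquiv _ _).symm trA ⊗ₘ (adjg'.homEquiv _ _).symm trB) =
      extProd adjf adjp adjq ν A' B' ≫ ((adjp'.comp adjf').homEquiv _ _).symm
        ((pL.map trA ⊗ₘ qL.map trB) ≫ prodShriek adjf adjf' adjg' adjp adjp' adjq ν A B) := by
    rw [Adjunction.homEquiv_naturality_left_symm, Functor.comp_map, ← Category.assoc,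
      ← extProd_natural, Category.assoc, extProd_comp_symm_prodShriek, adjf'.homEquiv_counit,
      adjg'.homEquiv_counit, MonoidalCategory.tensorHom_comp_tensorHom]
  rw [hkey, cancel_epi, ← Functor.comp_map, ← Adjunction.homEquiv_naturality_left_symm,
    Equiv.apply_eq_iff_eq]

end Groth.Agent.AdjTriLib
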